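import Cfsg.Agent.Lib.Chev.All

/-!
The elements of the Weyl group of F₄, as images of the four simple roots.
-/

set_option autoImplicit false
set_option maxRecDepth 20000

namespace Cfsg.Agent.Lib.Chev.F4AltSection

/-- A search tree of natural numbers. -/
inductive Tr where
  | leaf
  | node (l : Tr) (k : ℕ) (r : Tr)

/-- Search. -/
def Tr.has : Tr → ℕ → Bool
  | .leaf, _ => false
  | .node l k r, x => if Nat.blt x k then l.has x else if Nat.blt k x then r.has x else true

/-- A check of all keys. -/
def Tr.forallKeys : Tr → (ℕ → Bool) → Bool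
  | .leaf, _ => true
  | .node l k r, f => f k && l.forallKeys f && r.forallKeys f

theorem Tr.has_forall : ∀ (t : Tr) (f : ℕ → Bool), t.forallKeys f = true → ∀ x, t.has x = true → f x = true
  | .leaf, _, _, x, h => by simp [Tr.has] at h
  | .node l k r, f, hf, x, h => by
    simp only [Tr.forallKeys, Bool.and_eq_true] at hf
    simp only [Tr.has] at h
    split at h
    · exact Tr.has_forall l f hf.1.2 x h
    · split at h
      · exact Tr.has_forall r f hf.2 x h
      · rename_i h1 h2
        simp only [Nat.blt_eq] at h1 h2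
        rw [show x = k by omega]
        exact hf.1.1

def wTree0 : Tr :=
  (.node (.node (.node (.node (.node (.node (.node .leaf 409272 .leaf) 409274 .leaf) 409319 (.node .leaf 409321 .leaf)) 409365 (.node (.node (.node .leaf 409366 .leaf) 411336 .leaf) 411343 (.node .leaf 411383 .leaf))) 411390 (.node (.node (.node (.node .leaf 411664 .leaf) 411665 .leaf) 413498 (.node .leaf 413504 .leaf)) 413589 (.node (.node .leaf 413598 .leaf) 413919 (.node .leaf 413921 .leaf)))) 415753 (.node (.node (.node (.node (.node .leaf 415760 .leaf) 415846 .leaf) 415855 (.node .leaf 416175 .leaf)) 416176 (.node (.node .leaf 417871 .leaf) 417872 (.node .leaf 418192 .leaf))) 418201 (.node (.node (.node (.node .leaf 418287 .leaf) 418294 .leaf) 420126 (.node .leaf 420128 .leaf)) 420449 (.node (.node .leaf 420458 .leaf) 420543 (.node .leaf 420549 .leaf))))) 422382 (.node (.node (.node (.node (.node (.node .leaf 422383 .leaf) 422657 .leaf) 422664 (.node .leaf 422704 .leaf)) 422711 (.node (.node .leaf 424681 .leaf) 424682 (.node .leaf 424726 .leaf)))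 424728 (.node (.node (.node (.node .leaf 424773 .leaf) 424775 .leaf) 808392 (.node .leaf 808394 .leaf)) 808439 (.node (.node .leaf 808441 .leaf) 808485 (.node .leaf 808486 .leaf)))) 837576 (.node (.node (.node (.node (.node .leaf 837594 .leaf) 837623 .leaf) 837641 (.node .leaf 838421 .leaf)) 838422 (.node (.node .leaf 839738 .leaf) 839755 (.node .leaf 839829 .leaf))) 839849 (.node (.node (.node (.node .leaf 840676 .leaf) 840678 .leaf) 841993 (.node .leaf 842011 .leaf)) 842086 (.node (.node .leaf 842106 .leaf) 842932 (.node .leaf 842933 .leaf))))))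

def wTree1 : Tr :=
  (.node (.node (.node (.node (.node (.node (.node .leaf 859723 .leaf) 860549 .leaf) 860569 (.node .leaf 860644 .leaf)) 860662 (.node (.node .leaf 861977 .leaf) 861979 (.node .leaf 862806 .leaf))) 862826 (.node (.node (.node (.node .leaf 862900 .leaf) 862917 .leaf) 864233 (.node .leaf 864234 .leaf)) 865014 (.node (.node .leaf 865032 .leaf) 865061 (.node .leaf 865079 .leaf)))) 875737 (.node (.node (.node (.node (.node .leaf 875738 .leaf) 875782 .leaf) 875784 (.node .leaf 875829 .leaf)) 875831 (.node (.node .leaf 916680 .leaf) 916687 (.node .leaf 916727 .leaf))) 916734 (.node (.node (.node (.node .leaf 916864 .leaf) 916865 .leaf) 932280 (.node .leaf 932298 .leaf)) 932327 (.node (.node .leaf 932345 .leaf) 932981 (.node .leaf 932982 .leaf))))) 950095 (.node (.node (.node (.node (.node (.node .leaf 950109 .leaf) 950416 .leaf) 950441 (.node .leaf 951266 .leaf)) 951270 (.node (.node .leaf 952350 .leaf) 952365 (.node .leaf 952673 .leaf))) 952698 (.node (.node (.node (.node .leaf 953522 .leaf) 953525 .leaf)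 965706 (.node .leaf 965709 .leaf)) 966533 (.node (.node .leaf 966558 .leaf) 966866 (.node .leaf 966881 .leaf)))) 967961 (.node (.node (.node (.node (.node .leaf 967965 .leaf) 968790 .leaf) 968815 (.node .leaf 969122 .leaf)) 969136 (.node (.node .leaf 977033 .leaf) 977034 (.node .leaf 977670 .leaf))) 977688 (.node (.node (.node (.node .leaf 977717 .leaf) 977735 .leaf) 986238 (.node .leaf 986239 .leaf)) 986369 (.node (.node .leaf 986376 .leaf) 986416 (.node .leaf 986423 .leaf))))))

def wTree2 : Tr :=
  (.node (.node (.node (.node (.node (.node (.node .leaf 1024976 .leaf) 1025061 .leaf) 1025070 (.node .leaf 1025199 .leaf)) 1025201 (.node (.node .leaf 1040570 .leaf) 1040587 (.node .leaf 1040661 .leaf))) 1040681 (.node (.node (.node (.node .leaf 1041316 .leaf) 1041318 .leaf) 1058384 (.node .leaf 1058398 .leaf)) 1058799 (.node (.node .leaf 1058825 .leaf) 1059601 (.node .leaf 1059606 .leaf)))) 1062894 (.node (.node (.node (.node (.node .leaf 1062910 .leaf) 1063169 .leaf) 1063195 (.node .leaf 1064113 .leaf)) 1064116 (.node (.node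 .leaf 1073995 .leaf) 1073998 (.node .leaf 1074916 .leaf))) 1074942 (.node (.node (.node (.node .leaf 1075201 .leaf) 1075217 .leaf) 1078505 (.node .leaf 1078510 .leaf)) 1079286 (.node (.node .leaf 1079312 .leaf) 1079713 (.node .leaf 1079727 .leaf))))) 1087577 (.node (.node (.node (.node (.node (.node .leaf 1087579 .leaf) 1088214 .leaf) 1088234 (.node .leaf 1088308 .leaf)) 1088325 (.node (.node .leaf 1096782 .leaf) 1096784 (.node .leaf 1096913 .leaf))) 1096922 (.node (.node (.node (.node .leaf 1097007 .leaf) 1097013 .leaf) 1133305 (.node .leaf 1133312 .leaf)) 1133350 (.node (.node .leaf 1133359 .leaf) 1133535 (.node .leaf 1133536 .leaf)))) 1148905 (.node (.node (.node (.node (.node .leaf 1148923 .leaf) 1148950 .leaf) 1148970 (.node .leaf 1149652 .leaf)) 1149653 (.node (.node .leaf 1168928 .leaf) 1168943 (.node .leaf 1169343 .leaf))) 1169370 (.node (.node (.node (.node .leaf 1170192 .leaf) 1170197 .leaf) 1171183 (.node .leaf 1171199 .leaf)) 1171504 (.node (.node .leaf 1171531 .leaf) 1172448 (.node .leaf 1172452 .leaf))))))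

def wTree3 : Tr :=
  (.node (.node (.node (.node (.node (.node (.node .leaf 1184543 .leaf) 1185460 .leaf) 1185487 (.node .leaf 1185792 .leaf)) 1185808 (.node (.node .leaf 1186794 .leaf) 1186799 (.node .leaf 1187621 .leaf))) 1187648 (.node (.node (.node (.node .leaf 1188048 .leaf) 1188063 .leaf) 1198122 (.node .leaf 1198123 .leaf)) 1198805 (.node (.node .leaf 1198825 .leaf) 1198852 (.node .leaf 1198870 .leaf)))) 1207327 (.node (.node (.node (.node (.node .leaf 1207328 .leaf) 1207504 .leaf) 1207513 (.node .leaf 1207551 .leaf)) 1207558 (.node (.node .leaf 1241551 .leaf) 1241552 (.node .leaf 1241728 .leaf))) 1241737 (.node (.node (.node (.node .leaf 1241775 .leaf) 1241782 .leaf) 1261519 (.node .leaf 1261533 .leaf)) 1261840 (.node (.node .leaf 1261865 .leaf) 1262498 (.node .leaf 1262502 .leaf))))) 1263680 (.node (.node (.node (.node (.node (.node .leaf 1263694 .leaf) 1264095 .leaf) 1264121 (.node .leaf 1264753 .leaf)) 1264758 (.node (.node .leaf 1284073 .leaf) 1284094 (.node .leaf 1284118 .leaf))) 1284141 (.node (.node (.node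 (.node .leaf 1285297 .leaf) 1285298 .leaf) 1292877 (.node .leaf 1292878 .leaf)) 1294034 (.node (.node .leaf 1294057 .leaf) 1294081 (.node .leaf 1294102 .leaf)))) 1304201 (.node (.node (.node (.node (.node .leaf 1304206 .leaf) 1304838 .leaf) 1304864 (.node .leaf 1305265 .leaf)) 1305279 (.node (.node .leaf 1306457 .leaf) 1306461 (.node .leaf 1307094 .leaf))) 1307119 (.node (.node (.node (.node .leaf 1307426 .leaf) 1307440 .leaf) 1317961 (.node .leaf 1317968 .leaf)) 1318006 (.node (.node .leaf 1318015 .leaf) 1318191 (.node .leaf 1318192 .leaf))))))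

def wTree4 : Tr :=
  (.node (.node (.node (.node (.node (.node (.node .leaf 1349888 .leaf) 1350017 .leaf) 1350026 (.node .leaf 1350111 .leaf)) 1350117 (.node (.node .leaf 1369854 .leaf) 1369869 (.node .leaf 1370129 .leaf))) 1370154 (.node (.node (.node (.node .leaf 1370834 .leaf) 1370837 .leaf) 1374224 (.node .leaf 1374239 .leaf)) 1374639 (.node (.node .leaf 1374666 .leaf) 1375344 (.node .leaf 1375349 .leaf)))) 1392362 (.node (.node (.node (.node (.node .leaf 1392383 .leaf) 1392453 .leaf) 1392477 (.node .leaf 1393632 .leaf)) 1393634 (.node (.node .leaf 1403421 .leaf) 1403423 (.node .leaf 1404578 .leaf))) 1404602 (.node (.node (.node (.node .leaf 1404672 .leaf) 1404693 .leaf) 1412490 (.node .leaf 1412495 .leaf)) 1413173 (.node (.node .leaf 1413200 .leaf) 1413600 (.node .leaf 1413615 .leaf))))) 1417002 (.node (.node (.node (.node (.node (.node .leaf 1417005 .leaf) 1417685 .leaf) 1417710 (.node .leaf 1417970 .leaf)) 1417985 (.node (.node .leaf 1428506 .leaf) 1428512 (.node .leaf 1428597 .leaf))) 1428606 (.node (.node (.node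 (.node .leaf 1428735 .leaf) 1428737 .leaf) 1458222 (.node .leaf 1458223 .leaf)) 1458353 (.node (.node .leaf 1458360 .leaf) 1458400 (.node .leaf 1458407 .leaf)))) 1480350 (.node (.node (.node (.node (.node .leaf 1480366 .leaf) 1480673 .leaf) 1480699 (.node .leaf 1481425 .leaf)) 1481428 (.node (.node .leaf 1482607 .leaf) 1482623 (.node .leaf 1482928 .leaf))) 1482955 (.node (.node (.node (.node .leaf 1483680 .leaf) 1483684 .leaf) 1500696 (.node .leaf 1500719 .leaf)) 1500743 (.node (.node .leaf 1500766 .leaf) 1501968 (.node .leaf 1501969 .leaf))))))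

def wTree5 : Tr :=
  (.node (.node (.node (.node (.node (.node (.node .leaf 1513967 .leaf) 1515169 .leaf) 1515192 (.node .leaf 1515216 .leaf)) 1515239 (.node (.node .leaf 1523035 .leaf) 1523039 (.node .leaf 1523764 .leaf))) 1523791 (.node (.node (.node (.node .leaf 1524096 .leaf) 1524112 .leaf) 1525291 (.node .leaf 1525294 .leaf)) 1526020 (.node (.node .leaf 1526046 .leaf) 1526353 (.node .leaf 1526369 .leaf)))) 1539096 (.node (.node (.node (.node (.node .leaf 1539103 .leaf) 1539143 .leaf) 1539150 (.node .leaf 1539280 .leaf)) 1539281 (.node (.node .leaf 1566601 .leaf) 1566602 (.node .leaf 1566646 .leaf))) 1566648 (.node (.node (.node (.node .leaf 1566693 .leaf) 1566695 .leaf) 1590937 (.node .leaf 1590958 .leaf)) 1591030 (.node (.node .leaf 1591053 .leaf) 1592017 (.node .leaf 1592018 .leaf))))) 1593194 (.node (.node (.node (.node (.node (.node .leaf 1593215 .leaf) 1593285 .leaf) 1593309 (.node .leaf 1594272 .leaf)) 1594274 (.node (.node .leaf 1595400 .leaf) 1595423 (.node .leaf 1595447 .leaf))) 1595470 (.node (.node (.node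 (.node .leaf 1596528 .leaf) 1596529 .leaf) 1626766 (.node .leaf 1626767 .leaf)) 1627825 (.node (.node .leaf 1627848 .leaf) 1627872 (.node .leaf 1627895 .leaf)))) 1629021 (.node (.node (.node (.node (.node .leaf 1629023 .leaf) 1629986 .leaf) 1630010 (.node .leaf 1630080 .leaf)) 1630101 (.node (.node .leaf 1631277 .leaf) 1631278 (.node .leaf 1632242 .leaf))) 1632265 (.node (.node (.node (.node .leaf 1632337 .leaf) 1632358 .leaf) 1649688 (.node .leaf 1649690 .leaf)) 1649735 (.node (.node .leaf 1649737 .leaf) 1649781 (.node .leaf 1649782 .leaf))))))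

def wTree6 : Tr :=
  (.node (.node (.node (.node (.node (.node (.node .leaf 2015179 .leaf) 2015861 .leaf) 2015881 (.node .leaf 2015908 .leaf)) 2015926 (.node (.node .leaf 2019546 .leaf) 2019549 (.node .leaf 2020373 .leaf))) 2020398 (.node (.node (.node (.node .leaf 2020514 .leaf) 2020529 .leaf) 2021707 (.node .leaf 2021710 .leaf)) 2022628 (.node (.node .leaf 2022654 .leaf) 2022769 (.node .leaf 2022785 .leaf)))) 2023773 (.node (.node (.node (.node (.node .leaf 2023774 .leaf) 2024930 .leaf) 2024953 (.node .leaf 2024977 .leaf)) 2024998 (.node (.node .leaf 2073817 .leaf) 2073838 (.node .leaf 2073862 .leaf))) 2073885 (.node (.node (.node (.node .leaf 2075041 .leaf) 2075042 .leaf) 2078334 (.node .leaf 2078350 .leaf)) 2078465 (.node (.node .leaf 2078491 .leaf) 2079409 (.node .leaf 2079412 .leaf))))) 2080590 (.node (.node (.node (.node (.node (.node .leaf 2080605 .leaf) 2080721 .leaf) 2080746 (.node .leaf 2081570 .leaf)) 2081573 (.node (.node .leaf 2082889 .leaf) 2082907 (.node .leaf 2082934 .leaf))) 2082954 (.node (.node (.node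 (.node .leaf 2083636 .leaf) 2083637 .leaf) 2123513 (.node .leaf 2123515 .leaf)) 2124150 (.node (.node .leaf 2124170 .leaf) 2124244 (.node .leaf 2124261 .leaf)))) 2127881 (.node (.node (.node (.node (.node .leaf 2127885 .leaf) 2128662 .leaf) 2128687 (.node .leaf 2128850 .leaf)) 2128864 (.node (.node .leaf 2132251 .leaf) 2132255 (.node .leaf 2133172 .leaf))) 2133199 (.node (.node (.node (.node .leaf 2133360 .leaf) 2133376 .leaf) 2134317 (.node .leaf 2134319 .leaf)) 2135474 (.node (.node .leaf 2135498 .leaf) 2135568 (.node .leaf 2135589 .leaf))))))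

def wTree7 : Tr :=
  (.node (.node (.node (.node (.node (.node (.node .leaf 2182127 .leaf) 2182197 .leaf) 2182221 (.node .leaf 2183376 .leaf)) 2183378 (.node (.node .leaf 2186623 .leaf) 2186639 (.node .leaf 2186800 .leaf))) 2186827 (.node (.node (.node (.node .leaf 2187744 .leaf) 2187748 .leaf) 2191135 (.node .leaf 2191149 .leaf)) 2191312 (.node (.node .leaf 2191337 .leaf) 2192114 (.node .leaf 2192118 .leaf)))) 2193434 (.node (.node (.node (.node (.node .leaf 2193451 .leaf) 2193525 .leaf) 2193545 (.node .leaf 2194180 .leaf)) 2194182 (.node (.node .leaf 2231849 .leaf) 2231850 (.node .leaf 2232486 .leaf))) 2232504 (.node (.node (.node (.node .leaf 2232533 .leaf) 2232551 .leaf) 2238377 (.node .leaf 2238382 .leaf)) 2239206 (.node (.node .leaf 2239232 .leaf) 2239441 (.node .leaf 2239455 .leaf))))) 2240634 (.node (.node (.node (.node (.node (.node .leaf 2240639 .leaf) 2241461 .leaf) 2241488 (.node .leaf 2241696 .leaf)) 2241711 (.node (.node .leaf 2244862 .leaf) 2244863 (.node .leaf 2246065 .leaf))) 2246088 (.node (.node (.node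 (.node .leaf 2246112 .leaf) 2246135 .leaf) 2290440 (.node .leaf 2290463 .leaf)) 2290487 (.node (.node .leaf 2290510 .leaf) 2291712 (.node .leaf 2291713 .leaf)))) 2297168 (.node (.node (.node (.node (.node .leaf 2297183 .leaf) 2297391 .leaf) 2297418 (.node .leaf 2298240 .leaf)) 2298245 (.node (.node .leaf 2299424 .leaf) 2299438 (.node .leaf 2299647 .leaf))) 2299673 (.node (.node (.node (.node .leaf 2300497 .leaf) 2300502 .leaf) 2304024 (.node .leaf 2304042 .leaf)) 2304071 (.node (.node .leaf 2304089 .leaf) 2304725 (.node .leaf 2304726 .leaf))))))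

def wTree8 : Tr :=
  (.node (.node (.node (.node (.node (.node (.node .leaf 3003690 .leaf) 3004326 .leaf) 3004344 (.node .leaf 3004373 .leaf)) 3004391 (.node (.node .leaf 3007913 .leaf) 3007918 (.node .leaf 3008742 .leaf))) 3008768 (.node (.node (.node (.node .leaf 3008977 .leaf) 3008991 .leaf) 3010170 (.node .leaf 3010175 .leaf)) 3010997 (.node (.node .leaf 3011024 .leaf) 3011232 (.node .leaf 3011247 .leaf)))) 3016702 (.node (.node (.node (.node (.node .leaf 3016703 .leaf) 3017905 .leaf) 3017928 (.node .leaf 3017952 .leaf)) 3017975 (.node (.node .leaf 3062280 .leaf) 3062303 (.node .leaf 3062327 .leaf))) 3062350 (.node (.node (.node (.node .leaf 3063552 .leaf) 3063553 .leaf) 3066704 (.node .leaf 3066719 .leaf)) 3066927 (.node (.node .leaf 3066954 .leaf) 3067776 (.node .leaf 3067781 .leaf))))) 3068960 (.node (.node (.node (.node (.node (.node .leaf 3068974 .leaf) 3069183 .leaf) 3069209 (.node .leaf 3070033 .leaf)) 3070038 (.node (.node .leaf 3075864 .leaf) 3075882 (.node .leaf 3075911 .leaf))) 3075929 (.node (.node (.node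 (.node .leaf 3076565 .leaf) 3076566 .leaf) 3114233 (.node .leaf 3114235 .leaf)) 3114870 (.node (.node .leaf 3114890 .leaf) 3114964 (.node .leaf 3114981 .leaf)))) 3116297 (.node (.node (.node (.node (.node .leaf 3116301 .leaf) 3117078 .leaf) 3117103 (.node .leaf 3117266 .leaf)) 3117280 (.node (.node .leaf 3120667 .leaf) 3120671 (.node .leaf 3121588 .leaf))) 3121615 (.node (.node (.node (.node .leaf 3121776 .leaf) 3121792 .leaf) 3125037 (.node .leaf 3125039 .leaf)) 3126194 (.node (.node .leaf 3126218 .leaf) 3126288 (.node .leaf 3126309 .leaf))))))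

def wTree9 : Tr :=
  (.node (.node (.node (.node (.node (.node (.node .leaf 3172847 .leaf) 3172917 .leaf) 3172941 (.node .leaf 3174096 .leaf)) 3174098 (.node (.node .leaf 3175039 .leaf) 3175055 (.node .leaf 3175216 .leaf))) 3175243 (.node (.node (.node (.node .leaf 3176160 .leaf) 3176164 .leaf) 3179551 (.node .leaf 3179565 .leaf)) 3179728 (.node (.node .leaf 3179753 .leaf) 3180530 (.node .leaf 3180534 .leaf)))) 3184154 (.node (.node (.node (.node (.node .leaf 3184171 .leaf) 3184245 .leaf) 3184265 (.node .leaf 3184900 .leaf)) 3184902 (.node (.node .leaf 3224778 .leaf) 3224779 (.node .leaf 3225461 .leaf))) 3225481 (.node (.node (.node (.node .leaf 3225508 .leaf) 3225526 .leaf) 3226842 (.node .leaf 3226845 .leaf)) 3227669 (.node (.node .leaf 3227694 .leaf) 3227810 (.node .leaf 3227825 .leaf))))) 3229003 (.node (.node (.node (.node (.node (.node .leaf 3229006 .leaf) 3229924 .leaf) 3229950 (.node .leaf 3230065 .leaf)) 3230081 (.node (.node .leaf 3233373 .leaf) 3233374 (.node .leaf 3234530 .leaf))) 3234553 (.node (.node (.node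 (.node .leaf 3234577 .leaf) 3234598 .leaf) 3283417 (.node .leaf 3283438 .leaf)) 3283462 (.node (.node .leaf 3283485 .leaf) 3284641 (.node .leaf 3284642 .leaf)))) 3285630 (.node (.node (.node (.node (.node .leaf 3285646 .leaf) 3285761 .leaf) 3285787 (.node .leaf 3286705 .leaf)) 3286708 (.node (.node .leaf 3287886 .leaf) 3287901 (.node .leaf 3288017 .leaf))) 3288042 (.node (.node (.node (.node .leaf 3288866 .leaf) 3288869 .leaf) 3292489 (.node .leaf 3292507 .leaf)) 3292534 (.node (.node .leaf 3292554 .leaf) 3293236 (.node .leaf 3293237 .leaf))))))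

def wTree10 : Tr :=
  (.node (.node (.node (.node (.node (.node (.node .leaf 3658634 .leaf) 3658678 .leaf) 3658680 (.node .leaf 3658725 .leaf)) 3658727 (.node (.node .leaf 3676057 .leaf) 3676078 (.node .leaf 3676150 .leaf))) 3676173 (.node (.node (.node (.node .leaf 3677137 .leaf) 3677138 .leaf) 3678314 (.node .leaf 3678335 .leaf)) 3678405 (.node (.node .leaf 3678429 .leaf) 3679392 (.node .leaf 3679394 .leaf)))) 3680520 (.node (.node (.node (.node (.node .leaf 3680543 .leaf) 3680567 .leaf) 3680590 (.node .leaf 3681648 .leaf)) 3681649 (.node (.node .leaf 3711886 .leaf) 3711887 (.node .leaf 3712945 .leaf))) 3712968 (.node (.node (.node (.node .leaf 3712992 .leaf) 3713015 .leaf) 3714141 (.node .leaf 3714143 .leaf)) 3715106 (.node (.node .leaf 3715130 .leaf) 3715200 (.node .leaf 3715221 .leaf))))) 3716397 (.node (.node (.node (.node (.node (.node .leaf 3716398 .leaf) 3717362 .leaf) 3717385 (.node .leaf 3717457 .leaf)) 3717478 (.node (.node .leaf 3741720 .leaf) 3741722 (.node .leaf 3741767 .leaf))) 3741769 (.node (.node (.node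 (.node .leaf 3741813 .leaf) 3741814 .leaf) 3769134 (.node .leaf 3769135 .leaf)) 3769265 (.node (.node .leaf 3769272 .leaf) 3769312 (.node .leaf 3769319 .leaf)))) 3782046 (.node (.node (.node (.node (.node .leaf 3782062 .leaf) 3782369 .leaf) 3782395 (.node .leaf 3783121 .leaf)) 3783124 (.node (.node .leaf 3784303 .leaf) 3784319 (.node .leaf 3784624 .leaf))) 3784651 (.node (.node (.node (.node .leaf 3785376 .leaf) 3785380 .leaf) 3793176 (.node .leaf 3793199 .leaf)) 3793223 (.node (.node .leaf 3793246 .leaf) 3794448 (.node .leaf 3794449 .leaf))))))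

def wTree11 : Tr :=
  (.node (.node (.node (.node (.node (.node (.node .leaf 3806447 .leaf) 3807649 .leaf) 3807672 (.node .leaf 3807696 .leaf)) 3807719 (.node (.node .leaf 3824731 .leaf) 3824735 (.node .leaf 3825460 .leaf))) 3825487 (.node (.node (.node (.node .leaf 3825792 .leaf) 3825808 .leaf) 3826987 (.node .leaf 3826990 .leaf)) 3827716 (.node (.node .leaf 3827742 .leaf) 3828049 (.node .leaf 3828065 .leaf)))) 3850008 (.node (.node (.node (.node (.node .leaf 3850015 .leaf) 3850055 .leaf) 3850062 (.node .leaf 3850192 .leaf)) 3850193 (.node (.node .leaf 3879678 .leaf) 3879680 (.node .leaf 3879809 .leaf))) 3879818 (.node (.node (.node (.node .leaf 3879903 .leaf) 3879909 .leaf) 3890430 (.node .leaf 3890445 .leaf)) 3890705 (.node (.node .leaf 3890730 .leaf) 3891410 (.node .leaf 3891413 .leaf))))) 3894800 (.node (.node (.node (.node (.node (.node .leaf 3894815 .leaf) 3895215 .leaf) 3895242 (.node .leaf 3895920 .leaf)) 3895925 (.node (.node .leaf 3903722 .leaf) 3903743 (.node .leaf 3903813 .leaf))) 3903837 (.node (.node (.node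 (.node .leaf 3904992 .leaf) 3904994 .leaf) 3914781 (.node .leaf 3914783 .leaf)) 3915938 (.node (.node .leaf 3915962 .leaf) 3916032 (.node .leaf 3916053 .leaf)))) 3933066 (.node (.node (.node (.node (.node .leaf 3933071 .leaf) 3933749 .leaf) 3933776 (.node .leaf 3934176 .leaf)) 3934191 (.node (.node .leaf 3937578 .leaf) 3937581 (.node .leaf 3938261 .leaf))) 3938286 (.node (.node (.node (.node .leaf 3938546 .leaf) 3938561 .leaf) 3958298 (.node .leaf 3958304 .leaf)) 3958389 (.node (.node .leaf 3958398 .leaf) 3958527 (.node .leaf 3958529 .leaf))))))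

def wTree12 : Tr :=
  (.node (.node (.node (.node (.node (.node (.node .leaf 3990224 .leaf) 3990400 .leaf) 3990409 (.node .leaf 3990447 .leaf)) 3990454 (.node (.node .leaf 4000975 .leaf) 4000989 (.node .leaf 4001296 .leaf))) 4001321 (.node (.node (.node (.node .leaf 4001954 .leaf) 4001958 .leaf) 4003136 (.node .leaf 4003150 .leaf)) 4003551 (.node (.node .leaf 4003577 .leaf) 4004209 (.node .leaf 4004214 .leaf)))) 4014313 (.node (.node (.node (.node (.node .leaf 4014334 .leaf) 4014358 .leaf) 4014381 (.node .leaf 4015537 .leaf)) 4015538 (.node (.node .leaf 4023117 .leaf) 4023118 (.node .leaf 4024274 .leaf))) 4024297 (.node (.node (.node (.node .leaf 4024321 .leaf) 4024342 .leaf) 4043657 (.node .leaf 4043662 .leaf)) 4044294 (.node (.node .leaf 4044320 .leaf) 4044721 (.node .leaf 4044735 .leaf))))) 4045913 (.node (.node (.node (.node (.node (.node .leaf 4045917 .leaf) 4046550 .leaf) 4046575 (.node .leaf 4046882 .leaf)) 4046896 (.node (.node .leaf 4066633 .leaf) 4066640 (.node .leaf 4066678 .leaf))) 4066687 (.node (.node (.node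 (.node .leaf 4066863 .leaf) 4066864 .leaf) 4100857 (.node .leaf 4100864 .leaf)) 4100902 (.node (.node .leaf 4100911 .leaf) 4101087 (.node .leaf 4101088 .leaf)))) 4109545 (.node (.node (.node (.node (.node .leaf 4109563 .leaf) 4109590 .leaf) 4109610 (.node .leaf 4110292 .leaf)) 4110293 (.node (.node .leaf 4120352 .leaf) 4120367 (.node .leaf 4120767 .leaf))) 4120794 (.node (.node (.node (.node .leaf 4121616 .leaf) 4121621 .leaf) 4122607 (.node .leaf 4122623 .leaf)) 4122928 (.node (.node .leaf 4122955 .leaf) 4123872 (.node .leaf 4123876 .leaf))))))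

def wTree13 : Tr :=
  (.node (.node (.node (.node (.node (.node (.node .leaf 4135967 .leaf) 4136884 .leaf) 4136911 (.node .leaf 4137216 .leaf)) 4137232 (.node (.node .leaf 4138218 .leaf) 4138223 (.node .leaf 4139045 .leaf))) 4139072 (.node (.node (.node (.node .leaf 4139472 .leaf) 4139487 .leaf) 4158762 (.node .leaf 4158763 .leaf)) 4159445 (.node (.node .leaf 4159465 .leaf) 4159492 (.node .leaf 4159510 .leaf)))) 4174879 (.node (.node (.node (.node (.node .leaf 4174880 .leaf) 4175056 .leaf) 4175065 (.node .leaf 4175103 .leaf)) 4175110 (.node (.node .leaf 4211402 .leaf) 4211408 (.node .leaf 4211493 .leaf))) 4211502 (.node (.node (.node (.node .leaf 4211631 .leaf) 4211633 .leaf) 4220090 (.node .leaf 4220107 .leaf)) 4220181 (.node (.node .leaf 4220201 .leaf) 4220836 (.node .leaf 4220838 .leaf))))) 4228688 (.node (.node (.node (.node (.node (.node .leaf 4228702 .leaf) 4229103 .leaf) 4229129 (.node .leaf 4229905 .leaf)) 4229910 (.node (.node .leaf 4233198 .leaf) 4233214 (.node .leaf 4233473 .leaf))) 4233499 (.node (.node (.node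 (.node .leaf 4234417 .leaf) 4234420 .leaf) 4244299 (.node .leaf 4244302 .leaf)) 4245220 (.node (.node .leaf 4245246 .leaf) 4245505 (.node .leaf 4245521 .leaf)))) 4248809 (.node (.node (.node (.node (.node .leaf 4248814 .leaf) 4249590 .leaf) 4249616 (.node .leaf 4250017 .leaf)) 4250031 (.node (.node .leaf 4267097 .leaf) 4267099 (.node .leaf 4267734 .leaf))) 4267754 (.node (.node (.node (.node .leaf 4267828 .leaf) 4267845 .leaf) 4283214 (.node .leaf 4283216 .leaf)) 4283345 (.node (.node .leaf 4283354 .leaf) 4283439 (.node .leaf 4283445 .leaf))))))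

def wTree14 : Tr :=
  (.node (.node (.node (.node (.node (.node (.node .leaf 4321999 .leaf) 4322039 .leaf) 4322046 (.node .leaf 4322176 .leaf)) 4322177 (.node (.node .leaf 4330680 .leaf) 4330698 (.node .leaf 4330727 .leaf))) 4330745 (.node (.node (.node (.node .leaf 4331381 .leaf) 4331382 .leaf) 4339279 (.node .leaf 4339293 .leaf)) 4339600 (.node (.node .leaf 4339625 .leaf) 4340450 (.node .leaf 4340454 .leaf)))) 4341534 (.node (.node (.node (.node (.node .leaf 4341549 .leaf) 4341857 .leaf) 4341882 (.node .leaf 4342706 .leaf)) 4342709 (.node (.node .leaf 4354890 .leaf) 4354893 (.node .leaf 4355717 .leaf))) 4355742 (.node (.node (.node (.node .leaf 4356050 .leaf) 4356065 .leaf) 4357145 (.node .leaf 4357149 .leaf)) 4357974 (.node (.node .leaf 4357999 .leaf) 4358306 (.node .leaf 4358320 .leaf))))) 4375433 (.node (.node (.node (.node (.node (.node .leaf 4375434 .leaf) 4376070 .leaf) 4376088 (.node .leaf 4376117 .leaf)) 4376135 (.node (.node .leaf 4391550 .leaf) 4391551 (.node .leaf 4391681 .leaf))) 4391688 (.node (.node (.node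 (.node .leaf 4391728 .leaf) 4391735 .leaf) 4432584 (.node .leaf 4432586 .leaf)) 4432631 (.node (.node .leaf 4432633 .leaf) 4432677 (.node .leaf 4432678 .leaf)))) 4443336 (.node (.node (.node (.node (.node .leaf 4443354 .leaf) 4443383 .leaf) 4443401 (.node .leaf 4444181 .leaf)) 4444182 (.node (.node .leaf 4445498 .leaf) 4445515 (.node .leaf 4445589 .leaf))) 4445609 (.node (.node (.node (.node .leaf 4446436 .leaf) 4446438 .leaf) 4447753 (.node .leaf 4447771 .leaf)) 4447846 (.node (.node .leaf 4447866 .leaf) 4448692 (.node .leaf 4448693 .leaf))))))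

def wTree15 : Tr :=
  (.node (.node (.node (.node (.node (.node (.node .leaf 4465483 .leaf) 4466309 .leaf) 4466329 (.node .leaf 4466404 .leaf)) 4466422 (.node (.node .leaf 4467737 .leaf) 4467739 (.node .leaf 4468566 .leaf))) 4468586 (.node (.node (.node (.node .leaf 4468660 .leaf) 4468677 .leaf) 4469993 (.node .leaf 4469994 .leaf)) 4470774 (.node (.node .leaf 4470792 .leaf) 4470821 (.node .leaf 4470839 .leaf)))) 4499929 (.node (.node (.node (.node (.node .leaf 4499930 .leaf) 4499974 .leaf) 4499976 (.node .leaf 4500021 .leaf)) 4500023 (.node (.node .leaf 4883640 .leaf) 4883642 (.node .leaf 4883687 .leaf))) 4883689 (.node (.node (.node (.node .leaf 4883733 .leaf) 4883734 .leaf) 4885704 (.node .leaf 4885711 .leaf)) 4885751 (.node (.node .leaf 4885758 .leaf) 4886032 (.node .leaf 4886033 .leaf))))) 4887866 (.node (.node (.node (.node (.node (.node .leaf 4887872 .leaf) 4887957 .leaf) 4887966 (.node .leaf 4888287 .leaf)) 4888289 (.node (.node .leaf 4890121 .leaf) 4890128 (.node .leaf 4890214 .leaf))) 4890223 (.node (.node (.node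 (.node .leaf 4890543 .leaf) 4890544 .leaf) 4892239 (.node .leaf 4892240 .leaf)) 4892560 (.node (.node .leaf 4892569 .leaf) 4892655 (.node .leaf 4892662 .leaf)))) 4894494 (.node (.node (.node (.node (.node .leaf 4894496 .leaf) 4894817 .leaf) 4894826 (.node .leaf 4894911 .leaf)) 4894917 (.node (.node .leaf 4896750 .leaf) 4896751 (.node .leaf 4897025 .leaf))) 4897032 (.node (.node (.node (.node .leaf 4897072 .leaf) 4897079 .leaf) 4899049 (.node .leaf 4899050 .leaf)) 4899094 (.node (.node .leaf 4899096 .leaf) 4899141 (.node .leaf 4899143 .leaf))))))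

/-- The Weyl group of F₄. -/
def wTree : Tr :=
  (.node (.node (.node (.node wTree0 859722 wTree1) 1024970 (.node wTree2 1184539 wTree3)) 1349886 (.node (.node wTree4 1513966 wTree5) 2015178 (.node wTree6 2182106 wTree7))) 3003689 (.node (.node (.node wTree8 3172826 wTree9) 3658633 (.node wTree10 3806446 wTree11)) 3990223 (.node (.node wTree12 4135963 wTree13) 4321992 (.node wTree14 4465482 wTree15))))

end Cfsg.Agent.Lib.Chev.F4AltSection
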